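import Mathlib
import Cfsg.Agent.S0731
import Cfsg.Agent.S1020

set_option autoImplicit false

/-! Ladder SN17 (S3641): definitions. -/

namespace Cfsg.Agent.Lib.Helper93.SN17

/-- the permutation group induced on the 18 Sylow 17-subgroups -/
structure Z18 {Ω : Type*} [Finite Ω] (H : Subgroup (Equiv.Perm Ω)) : Prop where
  card : Nat.card Ω = 18
  two : ∀ a b c d : Ω, a ≠ b → c ≠ d → ∃ g ∈ H, g a = c ∧ g b = d
  ker : ∀ x : Ω, ∃ u ∈ H, orderOf u = 17 ∧ u x = x ∧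
    ∀ g ∈ H, g x = x → g * u * g⁻¹ ∈ Subgroup.zpowers u

/-- pointwise stabiliser of two points -/
def fix2 {Ω : Type*} (H : Subgroup (Equiv.Perm Ω)) (a b : Ω) : Subgroup (Equiv.Perm Ω) where
  carrier := {g | g ∈ H ∧ g a = a ∧ g b = b}
  mul_mem' := by
    rintro g h ⟨hg, hga, hgb⟩ ⟨hh, hha, hhb⟩
    exact ⟨H.mul_mem hg hh, by simp [hha, hga], by simp [hhb, hgb]⟩
  one_mem' := ⟨H.one_mem, rfl, rfl⟩
  inv_mem' := by
    rintro g ⟨hg, hga, hgb⟩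
    exact ⟨H.inv_mem hg, by rw [Equiv.Perm.inv_eq_iff_eq, hga], by rw [Equiv.Perm.inv_eq_iff_eq, hgb]⟩

end Cfsg.Agent.Lib.Helper93.SN17
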