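import Mathlib
import Cfsg.Agent.Lib.Helper93.SN17.Defs

set_option autoImplicit false

namespace Cfsg.Agent.Lib.Helper93.SN17

variable {G : Type*} [Group G] [Finite G]

theorem act_self (P : Sylow 17 G) {g : G} (hg : g ∈ (P : Subgroup G)) : g • P = P :=
  Sylow.smul_eq_iff_mem_normalizer.2 (Subgroup.le_normalizer hg)

theorem act_not_fixed (P Q : Sylow 17 G) (hQ : Q ≠ P) :
    ∃ g ∈ (P : Subgroup G), g • Q ≠ Q := by
  by_contra hcon
  push Not at hcon
  have h1 : Q ∈ MulAction.fixedPoints (P : Subgroup G) (Sylow 17 G) := by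
    intro g
    exact hcon g g.2
  rw [P.2.sylow_mem_fixedPoints_iff] at h1
  exact hQ (Sylow.ext (P.3 Q.2 h1))

theorem act_trans [Fact (Nat.Prime 17)] (h18 : Nat.card (Sylow 17 G) = 18) (P Q Q' : Sylow 17 G)
    (hQ : Q ≠ P) (hQ' : Q' ≠ P) : ∃ g ∈ (P : Subgroup G), g • Q = Q' := by
  obtain ⟨n, hn⟩ := P.2.card_orbit Q
  have hsub : MulAction.orbit (P : Subgroup G) Q ⊆ ({P} : Set (Sylow 17 G))ᶜ := by
    rintro _ ⟨g, rfl⟩ hmem
    have h1 : (g : G) • Q = P := hmem
    have h2 : (g : G) • P = P := act_self P g.2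
    exact hQ (smul_left_cancel (g : G) (h1.trans h2.symm))
  have hn0 : n ≠ 0 := by
    rintro rfl
    rw [pow_zero, Nat.card_eq_one_iff_unique] at hn
    obtain ⟨hs, -⟩ := hn
    obtain ⟨g, hg, hne⟩ := act_not_fixed P Q hQ
    apply hne
    have h1 : (⟨g • Q, ⟨⟨g, hg⟩, rfl⟩⟩ : MulAction.orbit (P : Subgroup G) Q)
        = ⟨Q, MulAction.mem_orbit_self Q⟩ := Subsingleton.elim _ _
    exact congrArg Subtype.val h1
  have hge : 17 ≤ (MulAction.orbit (P : Subgroup G) Q).ncard := by
    rw [← Nat.card_coe_set_eq, hn]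
    calc 17 = 17 ^ 1 := by norm_num
      _ ≤ 17 ^ n := Nat.pow_le_pow_right (by norm_num) (Nat.one_le_iff_ne_zero.2 hn0)
  have hcompl : (({P} : Set (Sylow 17 G))ᶜ).ncard = 17 := by
    have := Set.ncard_add_ncard_compl ({P} : Set (Sylow 17 G))
    rw [Set.ncard_singleton, h18] at this
    omega
  have heq : MulAction.orbit (P : Subgroup G) Q = ({P} : Set (Sylow 17 G))ᶜ :=
    Set.eq_of_subset_of_ncard_le hsub (by omega) (Set.toFinite _)
  have h3 : Q' ∈ MulAction.orbit (P : Subgroup G) Q := by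
    rw [heq]; exact hQ'
  obtain ⟨g, hg⟩ := h3
  exact ⟨g, g.2, hg⟩

theorem act (h18 : Nat.card (Sylow 17 G) = 18) :
    Z18 (MulAction.toPermHom G (Sylow 17 G)).range := by
  have : Fact (Nat.Prime 17) := ⟨by norm_num⟩
  set φ := MulAction.toPermHom G (Sylow 17 G) with hφ
  have hφa : ∀ (g : G) (Q : Sylow 17 G), φ g Q = g • Q := fun g Q => rfl
  refine ⟨h18, ?_, ?_⟩
  · intro a b c d hab hcd
    obtain ⟨g₁, hg₁⟩ := MulAction.exists_smul_eq G a c
    have hne : g₁ • b ≠ c := by
      intro h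
      exact hab (smul_left_cancel g₁ (hg₁.trans h.symm))
    obtain ⟨g₂, hg₂, h2⟩ := act_trans h18 c (g₁ • b) d hne (Ne.symm hcd)
    refine ⟨φ (g₂ * g₁), ⟨_, rfl⟩, ?_, ?_⟩
    · rw [hφa, mul_smul, hg₁, act_self c hg₂]
    · rw [hφa, mul_smul, h2]
  · intro P
    set M := (P : Subgroup G).map φ with hM
    have hMp : IsPGroup 17 M := P.2.map φ
    obtain ⟨k, hk⟩ := IsPGroup.iff_card.1 hMp
    have hdvd : Nat.card M ∣ Nat.card (Equiv.Perm (Sylow 17 G)) := Subgroup.card_subgroup_dvd_card M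
    have hperm : Nat.card (Equiv.Perm (Sylow 17 G)) = Nat.factorial 18 := by
      rw [Nat.card_perm, h18]
    -- a point different from P
    have hex : ∃ Q : Sylow 17 G, Q ≠ P := by
      by_contra hcon
      push Not at hcon
      have : Subsingleton (Sylow 17 G) := ⟨fun a b => (hcon a).trans (hcon b).symm⟩
      have := Finite.card_le_one_iff_subsingleton.2 this
      omega
    obtain ⟨Q, hQ⟩ := hex
    obtain ⟨p, hp, hpQ⟩ := act_not_fixed P Q hQ
    have hu1 : φ p ≠ 1 := by
      intro h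
      apply hpQ
      rw [← hφa, h]; rfl
    have huM : φ p ∈ M := ⟨p, hp, rfl⟩
    have hk1 : k = 1 := by
      have hk0 : k ≠ 0 := by
        rintro rfl
        rw [pow_zero, Subgroup.card_eq_one] at hk
        rw [hk, Subgroup.mem_bot] at huM
        exact hu1 huM
      have hk2 : k < 2 := by
        by_contra hge
        push Not at hge
        have h1 : 17 ^ 2 ∣ Nat.factorial 18 := by
          rw [← hperm]
          exact (pow_dvd_pow 17 hge).trans (hk ▸ hdvd)
        revert h1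
        decide
      omega
    rw [hk1, pow_one] at hk
    have hord : orderOf (φ p) = 17 := by
      have h1 : orderOf (φ p) ∣ 17 := by
        have := orderOf_dvd_natCard (⟨φ p, huM⟩ : M)
        rwa [Subgroup.orderOf_mk, hk] at this
      rcases (Nat.dvd_prime (by norm_num : Nat.Prime 17)).1 h1 with h2 | h2
      · exact absurd (orderOf_eq_one_iff.1 h2) hu1
      · exact h2
    have hz : Subgroup.zpowers (φ p) = M := by
      apply Subgroup.eq_of_le_of_card_ge
      · rw [Subgroup.zpowers_le]; exact huM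
      · rw [Nat.card_zpowers, hord, hk]
    refine ⟨φ p, ⟨p, rfl⟩, hord, ?_, ?_⟩
    · rw [hφa]; exact act_self P hp
    · rintro _ ⟨γ, rfl⟩ hγ
      rw [hφa] at hγ
      have hn : γ ∈ Subgroup.normalizer ((P : Subgroup G) : Set G) :=
        Sylow.smul_eq_iff_mem_normalizer.1 hγ
      rw [hz, ← map_inv, ← map_mul, ← map_mul]
      exact ⟨_, (Subgroup.mem_normalizer_iff.1 hn p).1 hp, rfl⟩

end Cfsg.Agent.Lib.Helper93.SN17
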