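import Cfsg.Agent.Lib.Helper93.SN17.Defs

set_option autoImplicit false

/-! Ladder SN17 (S3641), rung ARITH. -/

namespace Cfsg.Agent.Lib.Helper93.SN17

variable {G : Type*} [Group G] [Finite G]

theorem arith_dvd (r : ℕ) [Fact r.Prime] : Nat.card (Sylow r G) ∣ Nat.card G := by
  obtain ⟨P⟩ : Nonempty (Sylow r G) := inferInstance
  rw [Sylow.card_eq_index_normalizer P]
  exact Subgroup.index_dvd_card _

theorem arith (hNS : {c : ℕ | ∃ r : ℕ, r.Prime ∧ r ∣ Nat.card G ∧ c = Nat.card (Sylow r G)} =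
      ({18, 136, 153} : Set ℕ)) :
    Nat.card (Sylow 17 G) = 18 ∧ Nat.card (Sylow 2 G) = 153 ∧ Nat.card (Sylow 3 G) = 136 ∧
    ∀ r : ℕ, r.Prime → r ∣ Nat.card G → r = 2 ∨ r = 3 ∨ r = 17 ∨
      (r = 5 ∧ Nat.card (Sylow 5 G) = 136) ∨ (r = 19 ∧ Nat.card (Sylow 19 G) = 153) := by
  have key : ∀ r : ℕ, r.Prime → r ∣ Nat.card G →
      (r = 17 ∧ Nat.card (Sylow r G) = 18) ∨ ((r = 3 ∨ r = 5) ∧ Nat.card (Sylow r G) = 136) ∨
      ((r = 2 ∨ r = 19) ∧ Nat.card (Sylow r G) = 153) := by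
    intro r hr hd
    haveI : Fact r.Prime := ⟨hr⟩
    have hmem : Nat.card (Sylow r G) ∈ ({18, 136, 153} : Set ℕ) := by
      rw [← hNS]; exact ⟨r, hr, hd, rfl⟩
    have hmod : Nat.card (Sylow r G) ≡ 1 [MOD r] := card_sylow_modEq_one r G
    simp only [Set.mem_insert_iff, Set.mem_singleton_iff] at hmem
    rcases hmem with h | h | h
    · left
      rw [h] at hmod
      have h1 : r ∣ 18 - 1 := (Nat.modEq_iff_dvd' (by norm_num)).1 hmod.symm
      exact ⟨(Nat.prime_dvd_prime_iff_eq hr (by norm_num)).1 h1, h⟩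
    · right; left
      rw [h] at hmod
      have h1 : r ∣ 136 - 1 := (Nat.modEq_iff_dvd' (by norm_num)).1 hmod.symm
      have h2 : r ∣ 3 ^ 3 * 5 := by simpa using h1
      refine ⟨?_, h⟩
      rcases hr.dvd_mul.1 h2 with h3 | h3
      · left; exact (Nat.prime_dvd_prime_iff_eq hr (by norm_num)).1 (hr.dvd_of_dvd_pow h3)
      · right; exact (Nat.prime_dvd_prime_iff_eq hr (by norm_num)).1 h3
    · right; right
      rw [h] at hmod
      have h1 : r ∣ 153 - 1 := (Nat.modEq_iff_dvd' (by norm_num)).1 hmod.symm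
      have h2 : r ∣ 2 ^ 3 * 19 := by simpa using h1
      refine ⟨?_, h⟩
      rcases hr.dvd_mul.1 h2 with h3 | h3
      · left; exact (Nat.prime_dvd_prime_iff_eq hr (by norm_num)).1 (hr.dvd_of_dvd_pow h3)
      · right; exact (Nat.prime_dvd_prime_iff_eq hr (by norm_num)).1 h3
  have h18 : (18 : ℕ) ∈ {c : ℕ | ∃ r : ℕ, r.Prime ∧ r ∣ Nat.card G ∧ c = Nat.card (Sylow r G)} := by
    rw [hNS]; simp
  obtain ⟨r, hr, hd, hc⟩ := h18
  have h17 : Nat.card (Sylow 17 G) = 18 := by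
    rcases key r hr hd with ⟨rfl, h⟩ | ⟨-, h⟩ | ⟨-, h⟩
    · exact h
    · omega
    · omega
  haveI : Fact (Nat.Prime 17) := ⟨by norm_num⟩
  have hdvd : 18 ∣ Nat.card G := h17 ▸ arith_dvd 17
  have h2d : 2 ∣ Nat.card G := Dvd.dvd.trans (by norm_num) hdvd
  have h3d : 3 ∣ Nat.card G := Dvd.dvd.trans (by norm_num) hdvd
  refine ⟨h17, ?_, ?_, ?_⟩
  · rcases key 2 (by norm_num) h2d with ⟨h, -⟩ | ⟨h, -⟩ | ⟨-, h⟩
    · omega
    · omega
    · exact h
  · rcases key 3 (by norm_num) h3d with ⟨h, -⟩ | ⟨-, h⟩ | ⟨h, -⟩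
    · omega
    · exact h
    · omega
  · intro r hr hd
    rcases key r hr hd with ⟨rfl, -⟩ | ⟨rfl | rfl, h⟩ | ⟨rfl | rfl, h⟩
    · right; right; left; rfl
    · right; left; rfl
    · right; right; right; left; exact ⟨rfl, h⟩
    · left; rfl
    · right; right; right; right; exact ⟨rfl, h⟩

end Cfsg.Agent.Lib.Helper93.SN17
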