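import Cfsg.Agent.Lib.Helper93.SN17.THREE

set_option autoImplicit false

/-! Ladder SN17 (S3641): rung CARD. -/

namespace Cfsg.Agent.Lib.Helper93.SN17

variable {Ω : Type*} [Finite Ω] {H : Subgroup (Equiv.Perm Ω)}

/-- RUNG CARD -/
theorem card_eq (hZ : Z18 H) {a b : Ω} (hab : a ≠ b) :
    Nat.card H = 306 * Nat.card (fix2 H a b) ∧ Nat.card (fix2 H a b) ≤ 16 := by
  classical
  have := Fintype.ofFinite Ω
  have hcard : Fintype.card Ω = 18 := by rw [← Nat.card_eq_fintype_card, hZ.card]
  constructor
  · have horb : MulAction.orbit H ((a, b) : Ω × Ω) = {q : Ω × Ω | q.1 ≠ q.2} := by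
      ext ⟨c, d⟩
      constructor
      · rintro ⟨g, hg⟩
        have h1 : g • a = c := congrArg Prod.fst hg
        have h2 : g • b = d := congrArg Prod.snd hg
        intro h
        apply hab
        apply MulAction.injective g
        change g • a = g • b
        rw [h1, h2]
        exact h
      · intro hcd
        obtain ⟨g, hg, h1, h2⟩ := hZ.two a b c d hab hcd
        exact ⟨⟨g, hg⟩, Prod.ext h1 h2⟩
    have hst : Nat.card (MulAction.stabilizer H ((a, b) : Ω × Ω)) = Nat.card (fix2 H a b) := by
      apply Nat.card_congr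
      refine
        { toFun := fun g => ⟨g.1.1, g.1.2, congrArg Prod.fst g.2, congrArg Prod.snd g.2⟩
          invFun := fun g => ⟨⟨g.1, g.2.1⟩, Prod.ext g.2.2.1 g.2.2.2⟩
          left_inv := fun g => rfl
          right_inv := fun g => rfl }
    have hoc : Nat.card (MulAction.orbit H ((a, b) : Ω × Ω)) = 306 := by
      rw [horb]
      have e : {q : Ω × Ω | q.1 ≠ q.2} = ↑((Finset.univ : Finset Ω).offDiag) := by
        ext q
        simp
      rw [e, Nat.card_coe_set_eq, Set.ncard_coe_finset, Finset.offDiag_card, Finset.card_univ,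
        hcard]
    rw [Subgroup.card_eq_card_quotient_mul_card_subgroup (MulAction.stabilizer H ((a, b) : Ω × Ω)),
      ← Nat.card_congr (MulAction.orbitEquivQuotientStabilizer H ((a, b) : Ω × Ω)), hoc, hst]
  · have hS : ((Finset.univ.erase a).erase b).card = 16 := by
      rw [Finset.card_erase_of_mem (Finset.mem_erase.mpr ⟨hab.symm, Finset.mem_univ _⟩),
        Finset.card_erase_of_mem (Finset.mem_univ _), Finset.card_univ, hcard]
    have hne : ((Finset.univ.erase a).erase b).Nonempty := by
      rw [← Finset.card_pos, hS]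
      norm_num
    obtain ⟨c, hc⟩ := hne
    have hcb : c ≠ b := (Finset.mem_erase.mp hc).1
    have hca : c ≠ a := (Finset.mem_erase.mp (Finset.mem_erase.mp hc).2).1
    let φ : fix2 H a b → ((Finset.univ.erase a).erase b : Finset Ω) := fun g =>
      ⟨g.1 c, by
        rw [Finset.mem_erase, Finset.mem_erase]
        refine ⟨?_, ?_, Finset.mem_univ _⟩
        · intro h
          apply hcb
          apply g.1.injective
          rw [h, g.2.2.2]
        · intro h
          apply hca
          apply g.1.injective
          rw [h, g.2.2.1]⟩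
    have hφ : Function.Injective φ := by
      intro g h hgh
      have h1 : g.1 c = h.1 c := congrArg Subtype.val hgh
      have hmem : h⁻¹ * g ∈ (⊤ : Subgroup (fix2 H a b)) := Subgroup.mem_top _
      have h2 := (h⁻¹ * g).2
      have h3 : ((h⁻¹ * g : fix2 H a b) : Equiv.Perm Ω) c = c := by
        have : ((h⁻¹ * g : fix2 H a b) : Equiv.Perm Ω) = h.1⁻¹ * g.1 := rfl
        rw [this, Equiv.Perm.mul_apply, h1]
        exact h.1.symm_apply_apply c
      have h4 := three hZ _ h2.1 a b c hab hcb.symm hca.symm h2.2.1 h2.2.2 h3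
      have h5 : h⁻¹ * g = 1 := Subtype.ext h4
      exact (inv_mul_eq_one.mp h5).symm
    have := Nat.card_le_card_of_injective φ hφ
    have h16 : Nat.card ((Finset.univ.erase a).erase b : Finset Ω) = 16 := by
      rw [Nat.card_eq_fintype_card, Fintype.card_coe, hS]
    rwa [h16] at this

end Cfsg.Agent.Lib.Helper93.SN17
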