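import Cfsg.Agent.Lib.Helper93.SN17.Defs

set_option autoImplicit false

/-! Ladder SN17 (S3641): rung CYC. -/

namespace Cfsg.Agent.Lib.Helper93.SN17

variable {Ω : Type*} [Finite Ω] {H : Subgroup (Equiv.Perm Ω)}

/-- RUNG CYC -/
theorem cyc (hΩ : Nat.card Ω = 18) {x : Ω} {u : Equiv.Perm Ω} (hu : orderOf u = 17) (hx : u x = x)
    {y z : Ω} (hy : y ≠ x) (hz : z ≠ x) :
    ∃ i : ℕ, i < 17 ∧ (u ^ i) y = z ∧ ∀ j : ℕ, j < 17 → (u ^ j) y = z → j = i := by
  classical
  have := Fintype.ofFinite Ω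
  have hcard : Fintype.card Ω = 18 := by rw [← Nat.card_eq_fintype_card, hΩ]
  have hcyc : u.IsCycle :=
    Equiv.Perm.isCycle_of_prime_order' (by rw [hu]; norm_num) (by rw [hu, hcard]; norm_num)
  have hsupp : u.support.card = 17 := by rw [← hcyc.orderOf, hu]
  have hall : ∀ w, w ≠ x → u w ≠ w := by
    have hsub : u.support ⊆ Finset.univ.erase x := by
      intro w hw
      rw [Finset.mem_erase]
      refine ⟨?_, Finset.mem_univ _⟩
      rintro rfl
      exact (Equiv.Perm.mem_support.mp hw) hx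
    have heq : u.support = Finset.univ.erase x :=
      Finset.eq_of_subset_of_card_le hsub
        (by rw [Finset.card_erase_of_mem (Finset.mem_univ _), Finset.card_univ, hcard, hsupp])
    intro w hw
    have : w ∈ u.support := by
      rw [heq]
      exact Finset.mem_erase.mpr ⟨hw, Finset.mem_univ _⟩
    exact Equiv.Perm.mem_support.mp this
  obtain ⟨i, hi⟩ := hcyc.exists_pow_eq (hall y hy) (hall z hz)
  refine ⟨i % 17, Nat.mod_lt _ (by norm_num), ?_, ?_⟩
  · rw [← hu, pow_mod_orderOf]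
    exact hi
  · intro j hj hjz
    have h1 : u ^ j = u ^ i := hcyc.pow_eq_pow_iff.mpr ⟨y, hall y hy, by rw [hjz, hi]⟩
    have h2 := pow_eq_pow_iff_modEq.mp h1
    rw [hu] at h2
    have h3 : j % 17 = i % 17 := h2
    rw [← h3, Nat.mod_eq_of_lt hj]

end Cfsg.Agent.Lib.Helper93.SN17
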