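import Cfsg.Agent.Lib.Helper93.SN17.CARD
import Cfsg.Agent.Lib.Helper15.Sharp2

set_option autoImplicit false

/-! Ladder SN17 (S3641): rung ZASS. -/

namespace Cfsg.Agent.Lib.Helper93.SN17

section H
variable {Ω : Type*} [Finite Ω] {H : Subgroup (Equiv.Perm Ω)}

theorem zass_two (hZ : Z18 H) : MulAction.IsMultiplyPretransitive H Ω 2 := by
  rw [MulAction.is_two_pretransitive_iff]
  intro a b c d hab hcd
  obtain ⟨g, hg, h1, h2⟩ := hZ.two a b c d hab hcd
  exact ⟨⟨g, hg⟩, h1, h2⟩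

theorem zass_three (hZ : Z18 H) : ∀ g : H, ∀ a b c : Ω, a ≠ b → b ≠ c → a ≠ c →
    g • a = a → g • b = b → g • c = c → g = 1 := by
  intro g a b c hab hbc hac h1 h2 h3
  exact Subtype.ext (three hZ g g.2 a b c hab hbc hac h1 h2 h3)

theorem zass_four (hZ : Z18 H) : ∃ g : H, g ≠ 1 ∧ ∃ a b : Ω, a ≠ b ∧ g • a = a ∧ g • b = b := by
  by_contra hcon
  push Not at hcon
  have hS : Cfsg.Agent.Lib.Helper15.Sharp2 H Ω :=
    { trans2 := by
        intro a b c d hab hcd
        obtain ⟨g, hg, h1, h2⟩ := hZ.two a b c d hab hcd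
        exact ⟨⟨g, hg⟩, h1, h2⟩
      sharp := by
        intro g a b hab h1 h2
        by_contra hg
        exact hcon g hg a b hab h1 h2 }
  obtain ⟨p, j, hp, hj, hcard, -⟩ := hS.main (by rw [hZ.card]; norm_num)
  rw [hZ.card] at hcard
  have h2 : 2 ∣ p ^ j := by rw [← hcard]; norm_num
  have h3 : 3 ∣ p ^ j := by rw [← hcard]; norm_num
  have h2' := (Nat.prime_dvd_prime_iff_eq Nat.prime_two hp).1 (Nat.prime_two.dvd_of_dvd_pow h2)
  have h3' := (Nat.prime_dvd_prime_iff_eq Nat.prime_three hp).1 (Nat.prime_three.dvd_of_dvd_pow h3)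
  omega

theorem zass_five (hZ : Z18 H) (N : Subgroup H) (hN : N.Normal)
    (ht : MulAction.IsPretransitive N Ω) : ∃ a : Ω, MulAction.stabilizer N a ≠ ⊥ := by
  by_contra hcon
  push Not at hcon
  have hne : Nonempty Ω := by
    by_contra hne
    rw [not_nonempty_iff] at hne
    have := hZ.card
    rw [Nat.card_of_isEmpty] at this
    omega
  obtain ⟨x⟩ := hne
  obtain ⟨u, huH, hu, hux, -⟩ := hZ.ker x
  have h18 : 18 ∣ Nat.card N := by
    rw [← hZ.card, ← MulAction.index_stabilizer_of_transitive N x]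
    exact Subgroup.index_dvd_card _
  have : Fact (Nat.Prime 2) := ⟨by norm_num⟩
  have : Fact (Nat.Prime 3) := ⟨by norm_num⟩
  obtain ⟨n2, hn2⟩ := exists_prime_orderOf_dvd_card' (G := N) 2 (dvd_trans (by norm_num) h18)
  obtain ⟨n3, hn3⟩ := exists_prime_orderOf_dvd_card' (G := N) 3 (dvd_trans (by norm_num) h18)
  have hfree : ∀ n : N, n • x = x → n = 1 := by
    intro n hn
    have : n ∈ MulAction.stabilizer N x := hn
    rw [hcon x] at this
    exact this
  have h2x : ((n2 : H) : Equiv.Perm Ω) x ≠ x := by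
    intro h
    have := hfree n2 h
    rw [this, orderOf_one] at hn2
    omega
  have h3x : ((n3 : H) : Equiv.Perm Ω) x ≠ x := by
    intro h
    have := hfree n3 h
    rw [this, orderOf_one] at hn3
    omega
  obtain ⟨i, -, hi, -⟩ := cyc hZ.card hu hux h2x h3x
  set v : H := ⟨u, huH⟩ ^ i with hv
  have hvc : (v : Equiv.Perm Ω) = u ^ i := by simp [hv]
  have hvx : (u ^ i) x = x := by
    have : ∀ k : ℕ, (u ^ k) x = x := by
      intro k
      induction k with
      | zero => simp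
      | succ k ih => rw [pow_succ, Equiv.Perm.mul_apply, hux, ih]
    exact this i
  have hvx' : (u ^ i)⁻¹ x = x := by rw [Equiv.Perm.inv_eq_iff_eq, hvx]
  have hmem : v * (n2 : H) * v⁻¹ ∈ N := hN.conj_mem _ n2.2 v
  set w : N := ⟨v * (n2 : H) * v⁻¹, hmem⟩ with hw
  have hwx : (n3⁻¹ * w) • x = x := by
    rw [mul_smul, inv_smul_eq_iff]
    change ((w : H) : Equiv.Perm Ω) x = ((n3 : H) : Equiv.Perm Ω) x
    simp only [hw, Subgroup.coe_mul, Subgroup.coe_inv, hvc, Equiv.Perm.mul_apply, hvx', hi]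
  have hw3 : w = n3 := (inv_mul_eq_one.1 (hfree _ hwx)).symm
  have ho : orderOf w = 2 := by
    rw [← hn2, ← Subgroup.orderOf_coe w, ← Subgroup.orderOf_coe n2, hw]
    exact (MulAut.conj v).orderOf_eq (n2 : H)
  rw [hw3, hn3] at ho
  omega

/-- RUNG ZASS -/
theorem zass (hZ : Z18 H) : Cfsg.IsZassenhausGroup H Ω :=
  ⟨inferInstance, zass_two hZ, zass_three hZ, zass_four hZ, zass_five hZ⟩

end H

end Cfsg.Agent.Lib.Helper93.SN17
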