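import Cfsg.Agent.Lib.Helper93.SN17.CYC
import Cfsg.Agent.Lib.Helper93.SN17.CARD
import Cfsg.Agent.Lib.Helper93.SN17.ZASS
import Cfsg.Agent.Lib.Helper7.SL2Center
import Cfsg.Agent.S0730

set_option autoImplicit false

/-! Ladder SN17 (S3641), rung ID. -/

namespace Cfsg.Agent.Lib.Helper93.SN17

theorem id_map_center {A B : Type*} [Group A] [Group B] (E : A ≃* B) :
    (Subgroup.center A).map (E : A →* B) = Subgroup.center B := by
  ext y
  simp only [Subgroup.mem_map, Subgroup.mem_center_iff]
  constructor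
  · rintro ⟨x, hx, rfl⟩ g
    obtain ⟨g', rfl⟩ := E.surjective g
    show E g' * E x = E x * E g'
    rw [← map_mul, ← map_mul, hx g']
  · intro hy
    refine ⟨E.symm y, fun g => ?_, by simp⟩
    apply E.injective
    simp [hy (E g)]

/-- a ring isomorphism induces an isomorphism of projective general linear groups -/
theorem id_pgl_congr {F F' : Type*} [Field F] [Field F'] (e : F' ≃+* F) :
    Nonempty ((GL (Fin 2) F' ⧸ Subgroup.center (GL (Fin 2) F')) ≃*
      (GL (Fin 2) F ⧸ Subgroup.center (GL (Fin 2) F))) :=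
  ⟨QuotientGroup.congr _ _ (Units.mapEquiv (RingEquiv.mapMatrix e).toMulEquiv)
    (id_map_center _)⟩

variable {Ω : Type*} [Finite Ω] {H : Subgroup (Equiv.Perm Ω)}

theorem id_card_sharp (hΩ : Nat.card Ω = 18) (h3 : MulAction.IsMultiplyPretransitive H Ω 3)
    (hs : ∀ t : Fin 3 ↪ Ω, MulAction.stabilizer H t = ⊥) : Nat.card H = 4896 := by
  classical
  haveI : Fintype Ω := Fintype.ofFinite Ω
  have hc : Fintype.card Ω = 18 := by rw [← Nat.card_eq_fintype_card, hΩ]
  have hemb : Nat.card (Fin 3 ↪ Ω) = 4896 := by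
    rw [Nat.card_eq_fintype_card, Fintype.card_embedding_eq, hc, Fintype.card_fin]
    decide
  have hne : Nonempty (Fin 3 ↪ Ω) := by
    by_contra hcon
    rw [not_nonempty_iff] at hcon
    rw [Nat.card_of_isEmpty] at hemb
    omega
  obtain ⟨t⟩ := hne
  rw [← hemb]
  apply Nat.card_congr
  refine Equiv.ofBijective (fun g : H => g • t) ⟨?_, ?_⟩
  · intro g h hgh
    have h1 : h⁻¹ * g ∈ MulAction.stabilizer H t := by
      rw [MulAction.mem_stabilizer_iff, mul_smul]
      show h⁻¹ • (g • t) = t
      rw [show g • t = h • t from hgh]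
      exact inv_smul_smul h t
    rw [hs t, Subgroup.mem_bot] at h1
    exact (inv_mul_eq_one.1 h1).symm
  · intro s
    exact MulAction.exists_smul_eq H t s

theorem ident (hZ : Z18 H) {F : Type*} [Field F] [Fintype F] (hF : Fintype.card F = 17) :
    (Nat.card H = 2448 ∧ Nonempty (H ≃* Matrix.ProjectiveSpecialLinearGroup (Fin 2) F)) ∨
    (Nat.card H = 4896 ∧ Nonempty (H ≃* (GL (Fin 2) F ⧸ Subgroup.center (GL (Fin 2) F)))) := by
  classical
  have hne : Nonempty Ω := by
    by_contra hcon
    rw [not_nonempty_iff] at hcon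
    have := hZ.card
    rw [Nat.card_of_isEmpty] at this
    omega
  obtain ⟨x⟩ := hne
  obtain ⟨u, huH, hu17, hux, hun⟩ := hZ.ker x
  set u' : H := ⟨u, huH⟩ with hu'
  have hpow : ∀ k : ℤ, ((u' ^ k : H) : Equiv.Perm Ω) = u ^ k := fun k => by simp [hu']
  have hord : orderOf u' = 17 := by
    rw [← hu17, ← Subgroup.orderOf_coe]
  have hfixz : ∀ k : ℤ, (u ^ k) x = x := by
    intro k
    exact Equiv.Perm.zpow_apply_eq_self_of_apply_eq_self hux k
  have hFle : Subgroup.zpowers u' ≤ MulAction.stabilizer H x := by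
    rintro w ⟨k, rfl⟩
    rw [MulAction.mem_stabilizer_iff]
    show ((u' ^ k : H) : Equiv.Perm Ω) x = x
    rw [hpow]; exact hfixz k
  have hFn : ((Subgroup.zpowers u').subgroupOf (MulAction.stabilizer H x)).Normal := by
    constructor
    rintro ⟨w, hw⟩ hwF ⟨g, hg⟩
    rw [Subgroup.mem_subgroupOf] at hwF ⊢
    obtain ⟨k, hk⟩ := hwF
    simp only at hk
    show g * w * g⁻¹ ∈ Subgroup.zpowers u'
    rw [MulAction.mem_stabilizer_iff] at hg
    obtain ⟨j, hj⟩ := hun g.1 g.2 hg
    have h1 : g * u' * g⁻¹ = u' ^ j := by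
      apply Subtype.ext
      rw [hpow]
      exact hj.symm
    rw [← hk, ← conj_zpow, h1]
    exact Subgroup.zpow_mem _ (Subgroup.zpow_mem _ (Subgroup.mem_zpowers _) _) _
  have hreg : ∀ y z : Ω, y ≠ x → z ≠ x → ∃! w : Subgroup.zpowers u', ((w : H)) • y = z := by
    intro y z hy hz
    obtain ⟨i, hi, hiz, huniq⟩ := cyc hZ.card hu17 hux hy hz
    refine ⟨⟨u' ^ i, Subgroup.pow_mem _ (Subgroup.mem_zpowers _) _⟩, ?_, ?_⟩
    · show ((u' ^ i : H) : Equiv.Perm Ω) y = z
      simpa [hu'] using hiz
    · rintro ⟨w, hw⟩ hwz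
      have hw' : w ∈ Submonoid.powers u' := by
        rw [mem_powers_iff_mem_zpowers]; exact hw
      rw [mem_powers_iff_mem_range_orderOf, hord] at hw'
      simp only [Finset.mem_image, Finset.mem_range] at hw'
      obtain ⟨j, hj, rfl⟩ := hw'
      have h2 : (u ^ j) y = z := by
        have : ((u' ^ j : H) : Equiv.Perm Ω) y = z := hwz
        simpa [hu'] using this
      have := huniq j hj h2
      subst this
      rfl
  have hFab : IsMulCommutative (Subgroup.zpowers u') := inferInstance
  rcases Cfsg.Agent.S0731.result (zass hZ) x (Subgroup.zpowers u') hFle hFn hFab hreg with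
    ⟨h3, hs⟩ | ⟨K', _, _, hchar, ⟨e⟩⟩
  · right
    refine ⟨id_card_sharp hZ.card h3 hs, ?_⟩
    haveI : Fintype Ω := Fintype.ofFinite Ω
    have hc : Fintype.card Ω = 17 ^ 1 + 1 := by
      rw [← Nat.card_eq_fintype_card, hZ.card]; norm_num
    obtain ⟨F', _, _, hF', ⟨e⟩⟩ := Cfsg.Agent.S0730.result (p := 17) (f := 1) (by norm_num)
      (by norm_num) (by decide) hc H h3 hs
    have hcard : Fintype.card F' = Fintype.card F := by rw [hF', hF]; norm_num
    obtain ⟨e2⟩ := id_pgl_congr (FiniteField.ringEquivOfCardEq hcard : F' ≃+* F)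
    exact ⟨e.trans e2⟩
  · left
    -- determine the order
    obtain ⟨y, hyx⟩ : ∃ y : Ω, y ≠ x := by
      by_contra hcon
      push Not at hcon
      have : Subsingleton Ω := ⟨fun a b => by rw [hcon a, hcon b]⟩
      have h1 := hZ.card
      have h2 : Nat.card Ω ≤ 1 := Finite.card_le_one_iff_subsingleton.2 this
      omega
    obtain ⟨hc1, hc2⟩ := card_eq hZ hyx
    have h2ne : (2 : K') ≠ 0 := by
      intro h
      apply hchar
      have : CharP K' 2 := by
        apply CharTwo.of_one_ne_zero_of_two_eq_zero one_ne_zero h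
      exact ringChar.eq K' 2
    have hc3 := Cfsg.Agent.Lib.Helper7.card_PSL2 (F := K') h2ne
    rw [← Nat.card_congr e.toEquiv, hc1] at hc3
    set q := Fintype.card K' with hq
    set m := Nat.card (fix2 H y x) with hm
    have hq17 : q = 17 := by
      have hle : q * (q ^ 2 - 1) ≤ 9792 := by rw [← hc3]; omega
      have hq22 : q < 22 := by
        by_contra hcon
        have h22 : 22 ≤ q := by omega
        have h3 : 483 ≤ q ^ 2 - 1 := by
          have : 484 ≤ q ^ 2 := by nlinarith
          omega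
        have : 22 * 483 ≤ q * (q ^ 2 - 1) := Nat.mul_le_mul h22 h3
        omega
      have hpp : IsPrimePow q := FiniteField.isPrimePow_card K'
      have h17 : 17 ∣ q * (q ^ 2 - 1) := by rw [← hc3]; exact ⟨18 * m * 2, by ring⟩
      have hodd : ¬ 2 ∣ q := by
        intro h2q
        obtain ⟨p, hp⟩ := CharP.exists K'
        haveI := hp
        haveI : Fact p.Prime := ⟨CharP.char_is_prime K' p⟩
        obtain ⟨n, hpn, hqn⟩ := FiniteField.card K' p
        rw [← hq] at hqn
        rw [hqn] at h2q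
        have : 2 ∣ p := Nat.Prime.dvd_of_dvd_pow Nat.prime_two h2q
        have hp2 : p = 2 := ((Nat.prime_dvd_prime_iff_eq Nat.prime_two hpn).1 this).symm
        subst hp2
        exact h2ne (CharTwo.two_eq_zero)
      interval_cases q <;> first | rfl | (exfalso; revert h17; decide) | (exfalso; revert hodd; decide) | (exfalso; revert hpp; decide) | omega
    have hm8 : Nat.card H = 2448 := by
      rw [hq17] at hc3
      rw [hc1]
      omega
    refine ⟨hm8, ?_⟩
    haveI : IsSimpleGroup (Matrix.ProjectiveSpecialLinearGroup (Fin 2) K') :=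
      Matrix.ProjectiveSpecialLinearGroup.rank_two_simple (by
        rw [Nat.card_eq_fintype_card, ← hq, hq17]; norm_num)
    haveI : IsSimpleGroup H := (MulEquiv.isSimpleGroup_congr e).2 inferInstance
    exact Cfsg.Agent.S1020.result hm8 hF

end Cfsg.Agent.Lib.Helper93.SN17
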