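import Cfsg.Agent.Lib.Helper93.SN17.Defs

set_option autoImplicit false

/-! Ladder SN17 (S3641), rungs INJ and LEK. -/

namespace Cfsg.Agent.Lib.Helper93.SN17

variable {G : Type*} [Group G] [Finite G]

theorem card_le {G' : Type*} [Group G'] (f : G →* G') (hf : Function.Surjective f) (p : ℕ)
    [Fact p.Prime] : Nat.card (Sylow p G') ≤ Nat.card (Sylow p G) :=
  Nat.card_le_card_of_surjective _ (Sylow.mapSurjective_surjective hf p)

theorem inj {G' : Type*} [Group G'] (f : G →* G') (hf : Function.Surjective f) (p : ℕ)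
    [Fact p.Prime] (h : Nat.card (Sylow p G) ≤ Nat.card (Sylow p G')) (P : Sylow p G) :
    f.ker ≤ Subgroup.normalizer ((P : Subgroup G) : Set G) := by
  have : Finite G' := Finite.of_surjective f hf
  have hsurj := Sylow.mapSurjective_surjective hf p
  have hinj : Function.Injective (Sylow.mapSurjective hf : Sylow p G → Sylow p G') := by
    have hbij := (Nat.bijective_iff_surjective_and_card
      (Sylow.mapSurjective hf : Sylow p G → Sylow p G')).2
      ⟨hsurj, le_antisymm h (card_le f hf p)⟩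
    exact hbij.1
  intro k hk
  rw [MonoidHom.mem_ker] at hk
  apply Sylow.smul_eq_iff_mem_normalizer.1
  apply hinj
  rw [Sylow.ext_iff, Sylow.coe_mapSurjective, Sylow.coe_mapSurjective]
  ext y
  simp only [Subgroup.mem_map]
  constructor
  · rintro ⟨x, hx, rfl⟩
    rw [Sylow.smul_def, Sylow.pointwise_smul_def, Subgroup.mem_pointwise_smul_iff_inv_smul_mem] at hx
    refine ⟨_, hx, ?_⟩
    simp [MulAut.smul_def, hk]
  · rintro ⟨x, hx, rfl⟩
    refine ⟨k * x * k⁻¹, ?_, by simp [hk]⟩
    rw [Sylow.smul_def, Sylow.pointwise_smul_def, Subgroup.mem_pointwise_smul_iff_inv_smul_mem]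
    simpa [MulAut.smul_def, mul_assoc] using hx

theorem sylow_le_ker {G' : Type*} [Group G'] [Finite G'] (f : G →* G') (r : ℕ) [Fact r.Prime]
    (h : ¬ r ∣ Nat.card G') (R : Sylow r G) : (R : Subgroup G) ≤ f.ker := by
  intro x hx
  rw [MonoidHom.mem_ker]
  obtain ⟨k, hk⟩ := R.isPGroup' ⟨x, hx⟩
  have h1 : x ^ r ^ k = 1 := by simpa using congrArg Subtype.val hk
  have h2 : (f x) ^ r ^ k = 1 := by rw [← map_pow, h1, map_one]
  have h3 : orderOf (f x) ∣ r ^ k := orderOf_dvd_of_pow_eq_one h2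
  have h4 : orderOf (f x) ∣ Nat.card G' := orderOf_dvd_natCard _
  have hcop : Nat.Coprime (r ^ k) (Nat.card G') :=
    Nat.Coprime.pow_left _ ((Nat.Prime.coprime_iff_not_dvd Fact.out).2 h)
  have h5 : orderOf (f x) = 1 := Nat.eq_one_of_dvd_coprimes hcop h3 h4
  exact orderOf_eq_one_iff.1 h5

end Cfsg.Agent.Lib.Helper93.SN17
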