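import Cfsg.Agent.Lib.Helper93.SN17.Defs
import Cfsg.Agent.Lib.Helper3.PGroup

set_option autoImplicit false

namespace Cfsg.Agent.Lib.Helper93.SN17

section G
variable {G : Type*} [Group G] [Finite G]

/-- a subgroup containing a Sylow `p`-subgroup for every prime divisor `p` of `|G|` is `⊤`. -/
theorem ktriv_top (C : Subgroup G)
    (h : ∀ p : ℕ, p.Prime → p ∣ Nat.card G → ∃ P : Sylow p G, (P : Subgroup G) ≤ C) : C = ⊤ := by
  rw [← Subgroup.index_eq_one]
  by_contra hne
  obtain ⟨p, hp, hpd⟩ := Nat.exists_prime_and_dvd hne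
  have := Fact.mk hp
  obtain ⟨P, hP⟩ := h p hp (hpd.trans (Subgroup.index_dvd_card C))
  exact P.not_dvd_index (hpd.trans (Subgroup.index_dvd_of_le hP))

/-- an `r`-element of a subgroup normalising the Sylow `r`-subgroup `R` lies in `R`. -/
theorem ktriv_mem {r : ℕ} [Fact r.Prime] (R : Sylow r G) {x : G}
    (hx : x ∈ Subgroup.normalizer ((R : Subgroup G) : Set G)) {n : ℕ} (hxr : x ^ r ^ n = 1) :
    x ∈ (R : Subgroup G) := by
  have hpg : IsPGroup r (Subgroup.zpowers x) := by
    rw [IsPGroup.iff_orderOf]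
    intro y
    obtain ⟨k, hk⟩ := Subgroup.mem_zpowers_iff.mp y.2
    have h1 : y ^ r ^ n = 1 := by
      apply Subtype.ext
      rw [Subgroup.coe_pow, ← hk, Subgroup.coe_one, ← zpow_natCast, ← zpow_mul, mul_comm, zpow_mul,
        zpow_natCast, hxr, one_zpow]
    obtain ⟨m, -, hm⟩ := (Nat.dvd_prime_pow Fact.out).mp (orderOf_dvd_of_pow_eq_one h1)
    exact ⟨m, hm⟩
  have h2 := hpg.inf_normalizer_sylow R
  have h3 : x ∈ Subgroup.zpowers x ⊓ (R : Subgroup G) := h2.le ⟨Subgroup.mem_zpowers x, hx⟩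
  exact h3.2

/-- RUNG KTRIV -/
theorem ktriv (hZ : Subgroup.center G = ⊥) (K : Subgroup G) [K.Normal]
    (h : ∀ p : ℕ, p.Prime → p ∣ Nat.card G → ∀ P : Sylow p G,
      K ≤ Subgroup.normalizer ((P : Subgroup G) : Set G)) : K = ⊥ := by
  by_contra hK
  have hK1 : Nat.card K ≠ 1 := fun h1 => hK (Subgroup.card_eq_one.mp h1)
  obtain ⟨r, hr, hrd⟩ := Nat.exists_prime_and_dvd hK1
  have := Fact.mk hr
  have hrG : r ∣ Nat.card G := hrd.trans (Subgroup.card_subgroup_dvd_card K)
  obtain ⟨k, hk⟩ := exists_prime_orderOf_dvd_card' r hrd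
  have R : Sylow r G := default
  have hkR : (k : G) ∈ (R : Subgroup G) := by
    apply ktriv_mem R (h r hr hrG R k.2) (n := 1)
    rw [pow_one, ← Subgroup.coe_pow, ← hk, pow_orderOf_eq_one, Subgroup.coe_one]
  have hk1 : (k : G) ≠ 1 := by
    intro h1
    have : k = 1 := Subtype.ext h1
    rw [this, orderOf_one] at hk
    exact hr.one_lt.ne hk
  -- A = K ∩ R inside R
  have hAn : (K.subgroupOf (R : Subgroup G)).Normal := inferInstance
  have hAne : K.subgroupOf (R : Subgroup G) ≠ ⊥ := by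
    intro hb
    have : (⟨k, hkR⟩ : (R : Subgroup G)) ∈ K.subgroupOf (R : Subgroup G) := by
      rw [Subgroup.mem_subgroupOf]; exact k.2
    rw [hb, Subgroup.mem_bot] at this
    exact hk1 (congrArg Subtype.val this)
  have hmeet := Cfsg.Agent.Lib.Helper3.normal_inf_center_ne_bot' R.2 _ hAne
  obtain ⟨⟨z, hzK, hzc⟩, hz1⟩ := (Subgroup.ne_bot_iff_exists_ne_one).mp hmeet
  have hzK' : (z : G) ∈ K := Subgroup.mem_subgroupOf.mp hzK
  have hz1' : (z : G) ≠ 1 := by
    intro h1
    apply hz1
    exact Subtype.ext (Subtype.ext h1)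
  obtain ⟨n, hn⟩ := R.2 z
  have hn' : (z : G) ^ r ^ n = 1 := by
    rw [← Subgroup.coe_pow, hn, Subgroup.coe_one]
  -- all conjugates of z lie in R
  have hconj : ∀ y : G, y * (z : G) * y⁻¹ ∈ (R : Subgroup G) := by
    intro y
    apply ktriv_mem R (h r hr hrG R (Subgroup.Normal.conj_mem inferInstance _ hzK' y)) (n := n)
    rw [conj_pow, hn', mul_one, mul_inv_cancel]
  have htop : Subgroup.centralizer ({(z : G)} : Set G) = ⊤ := by
    apply ktriv_top
    intro p hp hpG
    have := Fact.mk hp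
    by_cases hpr : p = r
    · subst hpr
      refine ⟨R, fun y hy => ?_⟩
      rw [Subgroup.mem_centralizer_singleton_iff]
      have := Subgroup.mem_center_iff.mp hzc ⟨y, hy⟩
      exact congrArg Subtype.val this
    · refine ⟨default, fun y hy => ?_⟩
      rw [Subgroup.mem_centralizer_singleton_iff]
      set P : Sylow p G := default with hPdef
      have hd : Disjoint (P : Subgroup G) (R : Subgroup G) := IsPGroup.disjoint_of_ne p r hpr _ _ P.2 R.2
      have h1 : (z : G) * y * (z : G)⁻¹ * y⁻¹ ∈ (P : Subgroup G) := by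
        have hzN := h p hp hpG P hzK'
        have := (Subgroup.mem_normalizer_iff.mp hzN y).mp hy
        exact (P : Subgroup G).mul_mem this ((P : Subgroup G).inv_mem hy)
      have h2 : (z : G) * y * (z : G)⁻¹ * y⁻¹ ∈ (R : Subgroup G) := by
        have e : (z : G) * y * (z : G)⁻¹ * y⁻¹ = (z : G) * (y * (z : G) * y⁻¹)⁻¹ := by group
        rw [e]
        exact (R : Subgroup G).mul_mem z.2 ((R : Subgroup G).inv_mem (hconj y))
      have h3 := Subgroup.disjoint_def.mp hd h1 h2
      have h4 : (z : G) * y = y * (z : G) := by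
        have : (z : G) * y * ((z : G)⁻¹ * y⁻¹) = 1 := by rw [← h3]; group
        have h5 := eq_inv_of_mul_eq_one_left this
        rw [h5]; group
      exact h4.symm
  apply hz1'
  have : (z : G) ∈ Subgroup.center G := by
    rw [Subgroup.mem_center_iff]
    intro g
    have hg : g ∈ Subgroup.centralizer ({(z : G)} : Set G) := by rw [htop]; trivial
    exact Subgroup.mem_centralizer_singleton_iff.mp hg
  rwa [hZ, Subgroup.mem_bot] at this

end G

end Cfsg.Agent.Lib.Helper93.SN17
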