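import Cfsg.Agent.Lib.Helper93.SN17.CARD

set_option autoImplicit false

/-! Ladder SN17 (S3641): core of rung N2 (the order of `H` is a hypothesis). -/

namespace Cfsg.Agent.Lib.Helper93.SN17

section H
variable {Ω : Type*} [Finite Ω] {H : Subgroup (Equiv.Perm Ω)}

/-- setwise stabiliser of `{a, b}` in `H` -/
def n2D {Ω : Type*} (H : Subgroup (Equiv.Perm Ω)) (a b : Ω) : Subgroup H where
  carrier := {g | ((g : Equiv.Perm Ω) a = a ∧ (g : Equiv.Perm Ω) b = b) ∨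
    ((g : Equiv.Perm Ω) a = b ∧ (g : Equiv.Perm Ω) b = a)}
  mul_mem' := by
    rintro g h (⟨h1, h2⟩ | ⟨h1, h2⟩) (⟨h3, h4⟩ | ⟨h3, h4⟩)
    · left; simp [h1, h2, h3, h4]
    · right; simp [h1, h2, h3, h4]
    · right; simp [h1, h2, h3, h4]
    · left; simp [h1, h2, h3, h4]
  one_mem' := Or.inl ⟨rfl, rfl⟩
  inv_mem' := by
    rintro g (⟨h1, h2⟩ | ⟨h1, h2⟩)
    · left
      constructor
      · rw [Subgroup.coe_inv, Equiv.Perm.inv_eq_iff_eq, h1]
      · rw [Subgroup.coe_inv, Equiv.Perm.inv_eq_iff_eq, h2]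
    · right
      constructor
      · rw [Subgroup.coe_inv, Equiv.Perm.inv_eq_iff_eq, h2]
      · rw [Subgroup.coe_inv, Equiv.Perm.inv_eq_iff_eq, h1]

omit [Finite Ω] in
theorem n2_mem_D {a b : Ω} {g : H} : g ∈ n2D H a b ↔
    ((g : Equiv.Perm Ω) a = a ∧ (g : Equiv.Perm Ω) b = b) ∨
    ((g : Equiv.Perm Ω) a = b ∧ (g : Equiv.Perm Ω) b = a) := Iff.rfl

omit [Finite Ω] in
theorem n2_mem_F {a b : Ω} {g : H} : g ∈ (fix2 H a b).subgroupOf H ↔
    ((g : Equiv.Perm Ω) a = a ∧ (g : Equiv.Perm Ω) b = b) := by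
  rw [Subgroup.mem_subgroupOf]
  exact ⟨fun h => h.2, fun h => ⟨g.2, h⟩⟩

theorem n2_F_le (a b : Ω) : (fix2 H a b).subgroupOf H ≤ n2D H a b := by
  intro g hg
  exact Or.inl (n2_mem_F.1 hg)

theorem n2_card_F (a b : Ω) :
    Nat.card ((fix2 H a b).subgroupOf H) = Nat.card (fix2 H a b) :=
  Nat.card_congr (Subgroup.subgroupOfEquivOfLe
    (show fix2 H a b ≤ H from fun _ hg => hg.1)).toEquiv

theorem n2_relIndex (hZ : Z18 H) {a b : Ω} (hab : a ≠ b) :
    ((fix2 H a b).subgroupOf H).relIndex (n2D H a b) = 2 := by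
  rw [Subgroup.relIndex_eq_two_iff]
  obtain ⟨s, hs, h1, h2⟩ := hZ.two a b b a hab hab.symm
  refine ⟨⟨s, hs⟩, Or.inr ⟨h1, h2⟩, ?_⟩
  rintro d (⟨h3, h4⟩ | ⟨h3, h4⟩)
  · right
    refine ⟨n2_mem_F.2 ⟨h3, h4⟩, ?_⟩
    rw [n2_mem_F]
    rintro ⟨h5, -⟩
    simp only [Subgroup.coe_mul, Equiv.Perm.mul_apply, h1, h4] at h5
    exact hab h5.symm
  · left
    refine ⟨?_, ?_⟩
    · rw [n2_mem_F]
      simp only [Subgroup.coe_mul, Equiv.Perm.mul_apply, h1, h2, h3, h4, and_self]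
    · rw [n2_mem_F]
      rintro ⟨h5, -⟩
      rw [h3] at h5
      exact hab h5.symm

theorem n2_index (hZ : Z18 H) {a b : Ω} (hab : a ≠ b) : (n2D H a b).index = 153 := by
  have h1 := Subgroup.relIndex_mul_index (n2_F_le (H := H) a b)
  rw [n2_relIndex hZ hab] at h1
  have h2 := Subgroup.card_mul_index ((fix2 H a b).subgroupOf H)
  rw [n2_card_F, (card_eq hZ hab).1] at h2
  have hpos : 0 < Nat.card (fix2 H a b) := Nat.card_pos
  have h3 : ((fix2 H a b).subgroupOf H).index = 306 := by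
    have : Nat.card (fix2 H a b) * ((fix2 H a b).subgroupOf H).index
        = Nat.card (fix2 H a b) * 306 := by rw [h2, mul_comm]
    exact Nat.eq_of_mul_eq_mul_left hpos this
  omega

theorem n2_small (hZ : Z18 H) {a b c p q : Ω} (hab : a ≠ b) (hca : c ≠ a) (hcb : c ≠ b)
    (h : ∀ d : Equiv.Perm Ω, d ∈ fix2 H a b → d c = p ∨ d c = q) :
    Nat.card (fix2 H a b) ≤ 2 := by
  classical
  have hmaps : ∀ d : fix2 H a b, (d : Equiv.Perm Ω) c ∈ ({p, q} : Set Ω) := by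
    intro d
    rcases h d d.2 with h1 | h1
    · exact Or.inl h1
    · exact Or.inr h1
  have hinj : Function.Injective
      (fun d : fix2 H a b => (⟨(d : Equiv.Perm Ω) c, hmaps d⟩ : ({p, q} : Set Ω))) := by
    intro d e hde
    have h1 : (d : Equiv.Perm Ω) c = (e : Equiv.Perm Ω) c := congrArg Subtype.val hde
    have hm : ((e⁻¹ * d : fix2 H a b) : Equiv.Perm Ω) ∈ fix2 H a b := (e⁻¹ * d).2
    have h2 : ((e⁻¹ * d : fix2 H a b) : Equiv.Perm Ω) c = c := by
      rw [Subgroup.coe_mul, Subgroup.coe_inv, Equiv.Perm.mul_apply, h1, Equiv.Perm.inv_eq_iff_eq]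
    have h3 := three hZ _ hm.1 a b c hab hcb.symm hca.symm hm.2.1 hm.2.2 h2
    have h4 : e⁻¹ * d = 1 := Subtype.ext h3
    exact (inv_mul_eq_one.1 h4).symm
  calc Nat.card (fix2 H a b) ≤ Nat.card ({p, q} : Set Ω) := Nat.card_le_card_of_injective _ hinj
    _ = ({p, q} : Set Ω).ncard := Nat.card_coe_set_eq _
    _ ≤ 2 := by
      refine (Set.ncard_insert_le _ _).trans ?_
      rw [Set.ncard_singleton]

theorem n2_normalizer (hZ : Z18 H) {a b : Ω} (hab : a ≠ b) (hm : 2 < Nat.card (fix2 H a b)) :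
    Subgroup.normalizer ((n2D H a b : Subgroup H) : Set H) = n2D H a b := by
  apply le_antisymm _ Subgroup.le_normalizer
  intro g hg
  rw [Subgroup.mem_normalizer_iff] at hg
  -- key: for d in F, d permutes {g a, g b}
  have key : ∀ d : Equiv.Perm Ω, d ∈ fix2 H a b →
      (d ((g : Equiv.Perm Ω) a) = (g : Equiv.Perm Ω) a ∨ d ((g : Equiv.Perm Ω) a) = (g : Equiv.Perm Ω) b) ∧
      (d ((g : Equiv.Perm Ω) b) = (g : Equiv.Perm Ω) a ∨ d ((g : Equiv.Perm Ω) b) = (g : Equiv.Perm Ω) b) := by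
    intro d hd
    have hdD : (⟨d, hd.1⟩ : H) ∈ n2D H a b := Or.inl hd.2
    have h1 : g⁻¹ * ⟨d, hd.1⟩ * g ∈ n2D H a b := by
      rw [hg]
      have : g * (g⁻¹ * ⟨d, hd.1⟩ * g) * g⁻¹ = ⟨d, hd.1⟩ := by group
      rw [this]
      exact hdD
    rw [n2_mem_D] at h1
    simp only [Subgroup.coe_mul, Subgroup.coe_inv, Equiv.Perm.mul_apply,
      Equiv.Perm.inv_eq_iff_eq] at h1
    rcases h1 with ⟨h2, h3⟩ | ⟨h2, h3⟩
    · exact ⟨Or.inl h2, Or.inr h3⟩
    · exact ⟨Or.inr h2, Or.inl h3⟩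
  have hA : (g : Equiv.Perm Ω) a = a ∨ (g : Equiv.Perm Ω) a = b := by
    by_contra hcon
    push Not at hcon
    have := n2_small hZ hab hcon.1 hcon.2 (fun d hd => (key d hd).1)
    omega
  have hB : (g : Equiv.Perm Ω) b = a ∨ (g : Equiv.Perm Ω) b = b := by
    by_contra hcon
    push Not at hcon
    have := n2_small hZ hab hcon.1 hcon.2 (fun d hd => (key d hd).2)
    omega
  have hne : (g : Equiv.Perm Ω) a ≠ (g : Equiv.Perm Ω) b :=
    fun h => hab ((g : Equiv.Perm Ω).injective h)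
  rw [n2_mem_D]
  rcases hA with hA | hA <;> rcases hB with hB | hB
  · exact absurd (hA.trans hB.symm) hne
  · exact Or.inl ⟨hA, hB⟩
  · exact Or.inr ⟨hA, hB⟩
  · exact absurd (hA.trans hB.symm) hne

theorem n2_fact (k : ℕ) : (2 ^ k * 153).factorization 2 = k := by
  rw [Nat.factorization_mul (by positivity) (by norm_num), Nat.Prime.factorization_pow Nat.prime_two]
  have : (153 : ℕ).factorization 2 = 0 := Nat.factorization_eq_zero_of_not_dvd (by norm_num)
  simp [this]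

/-- core of RUNG N2 -/
theorem n2_of (hZ : Z18 H) (hcard : Nat.card H = 2448 ∨ Nat.card H = 4896) :
    Nat.card (Sylow 2 H) = 153 := by
  have hnt : Nontrivial Ω := by
    rw [← Finite.one_lt_card_iff_nontrivial, hZ.card]; norm_num
  obtain ⟨a, b, hab⟩ := exists_pair_ne Ω
  have : Fact (Nat.Prime 2) := ⟨by norm_num⟩
  have hidx := n2_index hZ hab
  have hc := Subgroup.card_mul_index (n2D H a b)
  rw [hidx] at hc
  have hce := (card_eq hZ hab).1
  have hm : 2 < Nat.card (fix2 H a b) := by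
    rcases hcard with h | h <;> omega
  have hD : Nat.card (n2D H a b) = 2 ^ (Nat.card H).factorization 2 := by
    rcases hcard with h | h
    · rw [h, show (2448 : ℕ) = 2 ^ 4 * 153 by norm_num, n2_fact]
      omega
    · rw [h, show (4896 : ℕ) = 2 ^ 5 * 153 by norm_num, n2_fact]
      omega
  rw [Sylow.card_eq_index_normalizer (Sylow.ofCard (n2D H a b) hD)]
  have h1 : ((Sylow.ofCard (n2D H a b) hD : Sylow 2 H) : Set H) = ((n2D H a b : Subgroup H) : Set H) := by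
    rfl
  rw [h1, n2_normalizer hZ hab hm, hidx]

end H

end Cfsg.Agent.Lib.Helper93.SN17
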