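import Cfsg.Agent.Lib.Helper93.SN17.ID

set_option autoImplicit false

/-! Ladder SN17 (S3641), rung NINE. -/

namespace Cfsg.Agent.Lib.Helper93.SN17

/-- an element of order 9 of `SL(2,17)` -/
def nineA : Matrix.SpecialLinearGroup (Fin 2) (ZMod 17) :=
  ⟨!![0, -1; 1, 7], by rw [Matrix.det_fin_two_of]; decide⟩

/-- a transvection -/
def nineT : Matrix.SpecialLinearGroup (Fin 2) (ZMod 17) :=
  ⟨!![1, 1; 0, 1], by rw [Matrix.det_fin_two_of]; decide⟩

/-- the cube of `nineA` -/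
def nineB : Matrix.SpecialLinearGroup (Fin 2) (ZMod 17) :=
  ⟨!![-7, 3; 14, 6], by rw [Matrix.det_fin_two_of]; decide⟩

theorem nineA_pow3 : nineA ^ 3 = nineB := by
  apply Subtype.ext
  rw [Matrix.SpecialLinearGroup.coe_pow]
  show (!![0, -1; 1, 7] : Matrix (Fin 2) (Fin 2) (ZMod 17)) ^ 3 = _
  decide

theorem nineA_pow9 : nineA ^ 9 = 1 := by
  rw [show (9 : ℕ) = 3 * 3 from rfl, pow_mul, nineA_pow3]
  apply Subtype.ext
  rw [Matrix.SpecialLinearGroup.coe_pow]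
  show (!![-7, 3; 14, 6] : Matrix (Fin 2) (Fin 2) (ZMod 17)) ^ 3 = _
  decide

theorem nineA_ncomm : nineT * nineA ^ 3 ≠ nineA ^ 3 * nineT := by
  rw [nineA_pow3]
  intro h
  have h1 := congrArg (fun M : Matrix.SpecialLinearGroup (Fin 2) (ZMod 17) =>
    (M : Matrix (Fin 2) (Fin 2) (ZMod 17))) h
  revert h1
  show ¬ ((!![1, 1; 0, 1] : Matrix (Fin 2) (Fin 2) (ZMod 17)) * !![-7, 3; 14, 6] =
    !![-7, 3; 14, 6] * !![1, 1; 0, 1])
  decide

theorem nine_psl : ∃ y : Matrix.ProjectiveSpecialLinearGroup (Fin 2) (ZMod 17), orderOf y = 9 := by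
  refine ⟨QuotientGroup.mk nineA, ?_⟩
  haveI : Fact (Nat.Prime 3) := ⟨by norm_num⟩
  have := orderOf_eq_prime_pow (p := 3) (n := 1)
    (x := (QuotientGroup.mk nineA : Matrix.ProjectiveSpecialLinearGroup (Fin 2) (ZMod 17))) ?_ ?_
  · simpa using this
  · rw [← QuotientGroup.mk_pow]
    intro h
    rw [QuotientGroup.eq_one_iff, Subgroup.mem_center_iff] at h
    exact nineA_ncomm (h nineT)
  · rw [← QuotientGroup.mk_pow]
    rw [show (3 : ℕ) ^ (1 + 1) = 9 from rfl, nineA_pow9]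
    rfl

theorem nine_pgl : ∃ y : (GL (Fin 2) (ZMod 17) ⧸ Subgroup.center (GL (Fin 2) (ZMod 17))),
    orderOf y = 9 := by
  refine ⟨QuotientGroup.mk (Matrix.SpecialLinearGroup.toGL nineA), ?_⟩
  haveI : Fact (Nat.Prime 3) := ⟨by norm_num⟩
  have := orderOf_eq_prime_pow (p := 3) (n := 1)
    (x := (QuotientGroup.mk (Matrix.SpecialLinearGroup.toGL nineA) :
      (GL (Fin 2) (ZMod 17) ⧸ Subgroup.center (GL (Fin 2) (ZMod 17))))) ?_ ?_
  · simpa using this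
  · rw [← QuotientGroup.mk_pow, ← map_pow]
    intro h
    rw [QuotientGroup.eq_one_iff, Subgroup.mem_center_iff] at h
    have h1 := h (Matrix.SpecialLinearGroup.toGL nineT)
    rw [← map_mul, ← map_mul] at h1
    exact nineA_ncomm (Matrix.SpecialLinearGroup.toGL_injective h1)
  · rw [← QuotientGroup.mk_pow, ← map_pow]
    rw [show (3 : ℕ) ^ (1 + 1) = 9 from rfl, nineA_pow9, map_one]
    rfl

variable {Ω : Type*} [Finite Ω] {H : Subgroup (Equiv.Perm Ω)}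

theorem nine (hZ : Z18 H) : ∃ y : H, orderOf y = 9 := by
  rcases ident hZ (F := ZMod 17) (ZMod.card 17) with ⟨-, ⟨e⟩⟩ | ⟨-, ⟨e⟩⟩
  · obtain ⟨y, hy⟩ := nine_psl
    exact ⟨e.symm y, by rw [MulEquiv.orderOf_eq, hy]⟩
  · obtain ⟨y, hy⟩ := nine_pgl
    exact ⟨e.symm y, by rw [MulEquiv.orderOf_eq, hy]⟩

end Cfsg.Agent.Lib.Helper93.SN17
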