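import Cfsg.Agent.Lib.Helper93.SN17.Defs

set_option autoImplicit false

namespace Cfsg.Agent.Lib.Helper93.SN17

section G
variable {G : Type*} [Group G] [Finite G]

/-- conjugation action of a subgroup `R ≤ N(P)` on `P`: fixed point congruence. -/
theorem no5_modEq {r : ℕ} [Fact r.Prime] (R P : Subgroup G) (hR : IsPGroup r R)
    (hRP : R ≤ Subgroup.normalizer (P : Set G)) :
    Nat.card P ≡ Nat.card (P ⊓ Subgroup.centralizer (R : Set G) : Subgroup G) [MOD r] := by
  let act : MulAction R P :=
    { smul := fun x y => ⟨(x : G) * y * (x : G)⁻¹, (Subgroup.mem_normalizer_iff.mp (hRP x.2) y).mp y.2⟩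
      one_smul := by
        intro y
        apply Subtype.ext
        show ((1 : R) : G) * y * ((1 : R) : G)⁻¹ = y
        simp
      mul_smul := by
        intro a b y
        apply Subtype.ext
        show ((a * b : R) : G) * y * ((a * b : R) : G)⁻¹ = (a : G) * ((b : G) * y * (b : G)⁻¹) * (a : G)⁻¹
        rw [Subgroup.coe_mul]
        group }
  have hsmul : ∀ (x : R) (y : P), ((x • y : P) : G) = (x : G) * y * (x : G)⁻¹ := fun _ _ => rfl
  have h1 := hR.card_modEq_card_fixedPoints P
  have h2 : Nat.card (MulAction.fixedPoints R P) =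
      Nat.card (P ⊓ Subgroup.centralizer (R : Set G) : Subgroup G) := by
    apply Nat.card_congr
    refine
      { toFun := fun y => ⟨((y : P) : G), (y : P).2, ?_⟩
        invFun := fun d => ⟨⟨(d : G), d.2.1⟩, ?_⟩
        left_inv := fun y => rfl
        right_inv := fun d => rfl }
    · show ((y : P) : G) ∈ Subgroup.centralizer (R : Set G)
      rw [Subgroup.mem_centralizer_iff]
      intro x hx
      have := congrArg Subtype.val (y.2 ⟨x, hx⟩)
      rw [hsmul] at this
      exact mul_inv_eq_iff_eq_mul.mp this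
    · intro x
      apply Subtype.ext
      rw [hsmul]
      have := Subgroup.mem_centralizer_iff.mp d.2.2 x x.2
      exact mul_inv_eq_iff_eq_mul.mpr this
  rw [h2] at h1
  exact h1

/-- RUNG NO5 -/
theorem no5 (K : Subgroup G) [K.Normal]
    (hK : ∀ P : Sylow 17 G, K ≤ Subgroup.normalizer ((P : Subgroup G) : Set G))
    (r : ℕ) [Fact r.Prime] (hr : ¬ r ∣ 16 * 17) (hrK : ∀ R : Sylow r G, (R : Subgroup G) ≤ K)
    (c : ℕ) (hc : ¬ 17 ∣ c) (hn : Nat.card (Sylow r G) = 17 * c) : False := by
  have h17 : Nat.Prime 17 := by norm_num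
  have := Fact.mk h17
  have hr17 : (17 : ℕ) ≠ r := by
    rintro rfl
    exact hr (Dvd.intro_left 16 rfl)
  have R : Sylow r G := default
  set N : Subgroup G := Subgroup.normalizer ((R : Subgroup G) : Set G) with hN
  have hidx : N.index = 17 * c := by rw [← hn, Sylow.card_eq_index_normalizer R]; rfl
  have P0 : Sylow 17 N := default
  have hQ0 : IsPGroup 17 ((P0 : Subgroup N).map N.subtype) := P0.2.map _
  obtain ⟨P, hP⟩ := hQ0.exists_le_sylow
  -- D
  set D : Subgroup G := (P : Subgroup G) ⊓ N with hD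
  have hDp : IsPGroup 17 D := P.2.to_le inf_le_left
  have hDN : D ≤ N := inf_le_right
  have hDeq : D.subgroupOf N = (P0 : Subgroup N) := by
    apply P0.3
    · exact hDp.comap_of_injective N.subtype N.subtype_injective
    · intro x hx
      rw [Subgroup.mem_subgroupOf]
      exact ⟨hP ⟨x, hx, rfl⟩, x.2⟩
  have hcardD : Nat.card D = Nat.card (P0 : Subgroup N) := by
    rw [← hDeq]
    exact (Nat.card_congr (Subgroup.subgroupOfEquivOfLe hDN).toEquiv).symm
  have hcP0 : Nat.card (P0 : Subgroup N) = 17 ^ (Nat.card N).factorization 17 :=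
    P0.card_eq_multiplicity
  have hcP : Nat.card (P : Subgroup G) = 17 ^ (Nat.card G).factorization 17 :=
    P.card_eq_multiplicity
  have hc0 : c ≠ 0 := by
    rintro rfl
    exact hc (dvd_zero 17)
  have hfac : (Nat.card G).factorization 17 = (Nat.card N).factorization 17 + 1 := by
    rw [← Subgroup.card_mul_index N, hidx, Nat.factorization_mul Nat.card_pos.ne' (by positivity),
      Nat.factorization_mul (by norm_num) hc0]
    simp only [Finsupp.coe_add, Pi.add_apply]
    rw [h17.factorization_self, Nat.factorization_eq_zero_of_not_dvd hc]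
  have hPD : Nat.card (P : Subgroup G) = 17 * Nat.card D := by
    rw [hcP, hfac, hcardD, hcP0, pow_succ, mul_comm]
  -- D = C_P(R)
  have hdisj : Disjoint (P : Subgroup G) (R : Subgroup G) :=
    IsPGroup.disjoint_of_ne 17 r hr17 _ _ P.2 R.2
  have hRP : (R : Subgroup G) ≤ Subgroup.normalizer ((P : Subgroup G) : Set G) :=
    (hrK R).trans (hK P)
  have hDC : (P : Subgroup G) ⊓ Subgroup.centralizer ((R : Subgroup G) : Set G) = D := by
    apply le_antisymm
    · exact inf_le_inf_left _ (Subgroup.centralizer_le_normalizer _)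
    · rintro d ⟨hdP, hdN⟩
      refine ⟨hdP, ?_⟩
      show d ∈ Subgroup.centralizer ((R : Subgroup G) : Set G)
      rw [Subgroup.mem_centralizer_iff]
      intro x hx
      have h1 : d * x * d⁻¹ * x⁻¹ ∈ (R : Subgroup G) :=
        (R : Subgroup G).mul_mem ((Subgroup.mem_normalizer_iff.mp hdN x).mp hx)
          ((R : Subgroup G).inv_mem hx)
      have h2 : d * x * d⁻¹ * x⁻¹ ∈ (P : Subgroup G) := by
        have e : d * x * d⁻¹ * x⁻¹ = d * (x * d * x⁻¹)⁻¹ := by group
        rw [e]
        exact (P : Subgroup G).mul_mem hdP ((P : Subgroup G).inv_mem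
          ((Subgroup.mem_normalizer_iff.mp (hRP hx) d).mp hdP))
      have h3 := Subgroup.disjoint_def.mp hdisj h2 h1
      have : d * x * (d⁻¹ * x⁻¹) = 1 := by rw [← h3]; group
      have h5 := eq_inv_of_mul_eq_one_left this
      rw [h5]; group
  have hmod := no5_modEq (R : Subgroup G) (P : Subgroup G) R.2 hRP
  rw [hDC, hPD] at hmod
  have hdvd : r ∣ 17 * Nat.card D - Nat.card D :=
    (Nat.modEq_iff_dvd' (by omega)).mp hmod.symm
  have e16 : 17 * Nat.card D - Nat.card D = 16 * 17 ^ (Nat.card N).factorization 17 := by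
    rw [hcardD, hcP0]; omega
  rw [e16] at hdvd
  rcases (Nat.Prime.dvd_mul Fact.out).mp hdvd with h1 | h1
  · exact hr (Dvd.dvd.mul_right h1 17)
  · exact hr (Dvd.dvd.mul_left (Nat.Prime.dvd_of_dvd_pow Fact.out h1) 16)

end G

end Cfsg.Agent.Lib.Helper93.SN17
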