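import Cfsg.Agent.Lib.Helper93.SN17.ARITH
import Cfsg.Agent.Lib.Helper93.SN17.ACT
import Cfsg.Agent.Lib.Helper93.SN17.INJ
import Cfsg.Agent.Lib.Helper93.SN17.NO5
import Cfsg.Agent.Lib.Helper93.SN17.KTRIV
import Cfsg.Agent.Lib.Helper93.SN17.NINE
import Cfsg.Agent.Lib.Helper93.SN17.N2A
import Cfsg.Agent.Lib.Helper93.SN17.N3A

set_option autoImplicit false

/-! Ladder SN17 (S3641): assembly. -/

namespace Cfsg.Agent.Lib.Helper93.SN17

section G
variable {G : Type*} [Group G] [Finite G]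

/-- assembly -/
theorem main (hZ : Subgroup.center G = ⊥)
    (hNS : {c : ℕ | ∃ r : ℕ, r.Prime ∧ r ∣ Nat.card G ∧ c = Nat.card (Sylow r G)} =
      ({18, 136, 153} : Set ℕ))
    {F : Type*} [Field F] [Fintype F] (hF : Fintype.card F = 17) :
    Nonempty (G ≃* Matrix.ProjectiveSpecialLinearGroup (Fin 2) F) ∨
      Nonempty (G ≃* (GL (Fin 2) F ⧸ Subgroup.center (GL (Fin 2) F))) := by
  obtain ⟨h17, h2, h3, hr⟩ := arith hNS
  have hZ18 := act h17
  set φ := MulAction.toPermHom G (Sylow 17 G) with hφ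
  have hf : Function.Surjective φ.rangeRestrict := φ.rangeRestrict_surjective
  have hid := ident hZ18 hF
  have hcard : Nat.card φ.range = 2448 ∨ Nat.card φ.range = 4896 := by
    rcases hid with h | h
    · exact Or.inl h.1
    · exact Or.inr h.1
  haveI : Fact (Nat.Prime 2) := ⟨by norm_num⟩
  haveI : Fact (Nat.Prime 3) := ⟨by norm_num⟩
  haveI : Fact (Nat.Prime 5) := ⟨by norm_num⟩
  haveI : Fact (Nat.Prime 17) := ⟨by norm_num⟩
  haveI : Fact (Nat.Prime 19) := ⟨by norm_num⟩
  have hK17 : ∀ P : Sylow 17 G,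
      φ.rangeRestrict.ker ≤ Subgroup.normalizer ((P : Subgroup G) : Set G) := by
    intro P k hk
    rw [MonoidHom.ker_rangeRestrict, MonoidHom.mem_ker] at hk
    have h1 : k • P = P := by
      have := congrArg (fun σ : Equiv.Perm (Sylow 17 G) => σ P) hk
      simpa [hφ] using this
    exact Sylow.smul_eq_iff_mem_normalizer.1 h1
  have hK2 : ∀ P : Sylow 2 G,
      φ.rangeRestrict.ker ≤ Subgroup.normalizer ((P : Subgroup G) : Set G) :=
    inj φ.rangeRestrict hf 2 (by rw [h2, n2_of hZ18 hcard])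
  have hK3 : ∀ P : Sylow 3 G,
      φ.rangeRestrict.ker ≤ Subgroup.normalizer ((P : Subgroup G) : Set G) :=
    inj φ.rangeRestrict hf 3 (by
      rw [h3, n3_of hZ18.card (three hZ18) hcard (nine hZ18)
        (by rw [← h3]; exact card_le φ.rangeRestrict hf 3)])
  have hK : φ.rangeRestrict.ker = ⊥ := by
    apply ktriv hZ
    intro p hp hpG
    rcases hr p hp hpG with rfl | rfl | rfl | ⟨rfl, h5⟩ | ⟨rfl, h19⟩
    · exact hK2
    · exact hK3
    · exact hK17
    · exfalso
      refine no5 φ.rangeRestrict.ker hK17 5 (by norm_num) ?_ 8 (by norm_num) (by rw [h5])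
      intro R
      apply sylow_le_ker
      rcases hcard with h | h <;> rw [h] <;> norm_num
    · exfalso
      refine no5 φ.rangeRestrict.ker hK17 19 (by norm_num) ?_ 9 (by norm_num) (by rw [h19])
      intro R
      apply sylow_le_ker
      rcases hcard with h | h <;> rw [h] <;> norm_num
  have hinj : Function.Injective φ.rangeRestrict := (MonoidHom.ker_eq_bot_iff _).1 hK
  let e : G ≃* φ.range := MulEquiv.ofBijective φ.rangeRestrict ⟨hinj, hf⟩
  rcases hid with ⟨-, ⟨e1⟩⟩ | ⟨-, ⟨e1⟩⟩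
  · exact Or.inl ⟨e.trans e1⟩
  · exact Or.inr ⟨e.trans e1⟩

end G

end Cfsg.Agent.Lib.Helper93.SN17
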