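import Cfsg.Agent.Lib.Helper93.SN17.N2A
import Cfsg.Agent.Lib.Helper93.SN17.ID

set_option autoImplicit false

/-! Ladder SN17 (S3641): rung N2. -/

namespace Cfsg.Agent.Lib.Helper93.SN17

section H
variable {Ω : Type*} [Finite Ω] {H : Subgroup (Equiv.Perm Ω)}

/-- RUNG N2 -/
theorem n2 (hZ : Z18 H) : Nat.card (Sylow 2 H) = 153 := by
  have : Fact (Nat.Prime 17) := ⟨by norm_num⟩
  refine n2_of hZ ?_
  rcases ident hZ (F := ZMod 17) (ZMod.card 17) with h | h
  · exact Or.inl h.1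
  · exact Or.inr h.1

end H

end Cfsg.Agent.Lib.Helper93.SN17
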