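import Cfsg.Agent.Lib.Helper93.SN17.CYC

set_option autoImplicit false

/-! Ladder SN17 (S3641): rung THREE. -/

namespace Cfsg.Agent.Lib.Helper93.SN17

variable {Ω : Type*} [Finite Ω] {H : Subgroup (Equiv.Perm Ω)}

/-- RUNG THREE -/
theorem three (hZ : Z18 H) : ∀ g ∈ H, ∀ a b c : Ω, a ≠ b → b ≠ c → a ≠ c →
    g a = a → g b = b → g c = c → g = 1 := by
  intro g hg a b c hab hbc hac hga hgb hgc
  obtain ⟨u, _huH, hu, hua, hnorm⟩ := hZ.ker a
  have h1 := hnorm g hg hga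
  have h2 : g * u * g⁻¹ ∈ Submonoid.powers u := mem_powers_iff_mem_zpowers.mpr h1
  obtain ⟨k, hk⟩ := Submonoid.mem_powers_iff _ _ |>.mp h2
  -- action on `u^i b`
  have hact : ∀ i : ℕ, g ((u ^ i) b) = (u ^ (k * i)) b := by
    intro i
    have e : g * u ^ i * g⁻¹ = u ^ (k * i) := by
      rw [← conj_pow, ← hk, pow_mul]
    have e2 : g * u ^ i = u ^ (k * i) * g := by
      rw [← e]
      group
    have := congrArg (fun σ : Equiv.Perm Ω => σ b) e2
    simpa [Equiv.Perm.mul_apply, hgb] using this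
  obtain ⟨m, hm, hmc, huniq⟩ := cyc hZ.card hu hua hab.symm hac.symm (y := b) (z := c)
  have hm0 : m ≠ 0 := by
    rintro rfl
    apply hbc
    simpa using hmc
  have h3 : (u ^ (k * m)) b = c := by
    rw [← hact m, hmc, hgc]
  have h4 : (u ^ ((k * m) % 17)) b = c := by
    rw [← hu, pow_mod_orderOf]
    exact h3
  have h5 : (k * m) % 17 = m := huniq _ (Nat.mod_lt _ (by norm_num)) h4
  have h6 : k * m ≡ 1 * m [MOD 17] := by
    unfold Nat.ModEq
    rw [h5, one_mul, Nat.mod_eq_of_lt hm]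
  have hcop : Nat.gcd 17 m = 1 := by
    have hp : Nat.Prime 17 := by norm_num
    apply (Nat.Prime.coprime_iff_not_dvd hp).mpr
    intro hd
    exact absurd (Nat.le_of_dvd (Nat.pos_of_ne_zero hm0) hd) (not_le.mpr hm)
  have h7 : k ≡ 1 [MOD 17] := Nat.ModEq.cancel_right_of_coprime hcop h6
  have h8 : u ^ k = u ^ 1 := by
    apply pow_eq_pow_iff_modEq.mpr
    rw [hu]
    exact h7
  have hact' : ∀ i : ℕ, g ((u ^ i) b) = (u ^ i) b := by
    intro i
    rw [hact i, pow_mul, h8, pow_one]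
  ext w
  by_cases hw : w = a
  · rw [hw, hga]
    rfl
  · obtain ⟨i, _, hi, _⟩ := cyc hZ.card hu hua hab.symm hw (y := b) (z := w)
    rw [← hi, hact' i]
    rfl

end Cfsg.Agent.Lib.Helper93.SN17
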